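import Cfsg.Agent.H160.PD.Tools
import Cfsg.Agent.H999.RowPSL
import Cfsg.Agent.S0813
import Mathlib
import Cfsg.Agent.Lib.Zsigmondy
import Cfsg.Agent.H23.FreeAct
import Cfsg.Agent.FastGrp
import Cfsg.Agent.Prune
set_option linter.all false
prune_inst 0x7f00000000000000000000000000000000000000000000000000000000000000000000000000000000000000000000000000000000000000000000000000000000000000000000000000000000000000003fffffffffffffffffffffffffffaeffbdffffffff
open scoped Cfsg.Agent.FastGrp

-- part: H889/PDL/Basic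
section
/-!
# S4246, row `PSL_n(q)`, `n ≥ 3` (helper889): central quotients, orders, `|Out|`
-/

set_option autoImplicit false
set_option linter.unusedSectionVars false

namespace Cfsg.Agent.H889.PDL

open Subgroup Cfsg.Agent.H160.PD

section Quot

variable {G H : Type*} [Group G] [Group H] [Finite G] {f : G →* H}

theorem card_eq_mul_ker (hf : Function.Surjective f) : Nat.card G = Nat.card H * Nat.card f.ker := by
  have h1 := Subgroup.card_mul_index f.ker
  rw [Subgroup.index_ker, MonoidHom.range_eq_top.2 hf, Subgroup.card_top] at h1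
  rw [← h1, mul_comm]

/-- the order of a preimage -/
theorem card_comap (hf : Function.Surjective f) (K : Subgroup H) :
    Nat.card (K.comap f) = Nat.card K * Nat.card f.ker := by
  have : Finite H := Finite.of_surjective f hf
  have h1 := Subgroup.card_mul_index (K.comap f)
  have h2 := Subgroup.card_mul_index K
  rw [index_comap_of_surjective K hf, card_eq_mul_ker hf, ← h2] at h1
  have h3 : 0 < K.index := Nat.pos_of_ne_zero K.index_ne_zero_of_finite
  apply Nat.eq_of_mul_eq_mul_right h3
  rw [h1]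
  ring

/-- the fixed points of an automorphism of a central quotient -/
theorem card_fx_dvd (hf : Function.Surjective f) (hc : f.ker ≤ center G) {e : MulAut G} {e' : MulAut H}
    (h : ∀ x, f (e x) = e' (f x)) : Nat.card (Fx e') ∣ Nat.card (Fx e) := by
  set T := (Fx e').comap f with hT
  have hmem : ∀ x : T, e (x : G) * (x : G)⁻¹ ∈ f.ker := by
    intro x
    have h1 : e' (f x) = f x := x.2
    rw [MonoidHom.mem_ker, map_mul, map_inv, h, h1, mul_inv_cancel]
  let ψ : T →* f.ker :=
    { toFun := fun x => ⟨e (x : G) * (x : G)⁻¹, hmem x⟩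
      map_one' := by
        apply Subtype.ext
        simp only [_root_.OneMemClass.coe_one, _root_.map_one, _root_.inv_one, _root_.mul_one]
      map_mul' := by
        intro x y
        apply Subtype.ext
        show e ((x : G) * y) * ((x : G) * y)⁻¹ = (e (x : G) * (x : G)⁻¹) * (e (y : G) * (y : G)⁻¹)
        have h1 := mem_center_iff.1 (hc (hmem y)) (x : G)⁻¹
        rw [map_mul, mul_inv_rev]
        calc e (x : G) * e y * ((y : G)⁻¹ * (x : G)⁻¹) = e (x : G) * ((e (y : G) * (y : G)⁻¹) * (x : G)⁻¹) := by group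
          _ = e (x : G) * ((x : G)⁻¹ * (e (y : G) * (y : G)⁻¹)) := by rw [h1]
          _ = _ := by group }
  have hker : Nat.card ψ.ker = Nat.card (Fx e) := by
    refine Nat.card_congr ⟨fun x => ⟨x.1.1, ?_⟩, fun x => ⟨⟨x.1, ?_⟩, ?_⟩, fun x => rfl, fun x => rfl⟩
    · have h1 := congrArg Subtype.val (MonoidHom.mem_ker.1 x.2)
      exact mul_inv_eq_one.1 h1
    · have h1 : e x.1 = x.1 := x.2
      show e' (f x.1) = f x.1
      rw [← h, h1]
    · have h1 : e x.1 = x.1 := x.2
      apply Subtype.ext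
      show e x.1 * (x.1)⁻¹ = 1
      rw [h1, mul_inv_cancel]
  have h1 := Subgroup.card_mul_index ψ.ker
  have hTc : Nat.card T = Nat.card (Fx e') * Nat.card f.ker := card_comap hf _
  rw [Subgroup.index_ker, hker, hTc] at h1
  obtain ⟨c, hc⟩ : Nat.card ψ.range ∣ Nat.card f.ker := Subgroup.card_subgroup_dvd_card _
  have h2 : 0 < Nat.card ψ.range := Nat.card_pos
  refine ⟨c, ?_⟩
  apply Nat.eq_of_mul_eq_mul_right h2
  rw [h1, hc]
  ring

theorem card_fx_mul (hf : Function.Surjective f) {e : MulAut G} {e' : MulAut H}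
    (h : ∀ x, f (e x) = e' (f x)) (h' : ∀ x, e' (f x) = f x → e x = x) :
    Nat.card (Fx e') * Nat.card f.ker = Nat.card (Fx e) := by
  rw [← card_comap hf]
  congr 2
  ext x
  exact ⟨fun hx => h' x hx, fun hx => by
    show e' (f x) = f x
    rw [← h, (show e x = x from hx)]⟩

end Quot

section Conj

variable {G : Type*} [Group G]

theorem fx_conj (x : G) : Fx (MulAut.conj x) = centralizer {x} := by
  ext y
  rw [mem_Fx, MulAut.conj_apply, mem_centralizer_singleton_iff, mul_inv_eq_iff_eq_mul]
  exact eq_comm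

end Conj

section Psl

open Matrix
open Cfsg.Agent.ClassicalGeometry.AutPSL.Root
open Cfsg.Agent.ClassicalGeometry.AutPSL.Auto
open Cfsg.Agent.H999.RowPSL (ker_pr exists_lift_order not_dvd_center)

variable {F : Type*} [Field F] [Fintype F] {n : ℕ}

/-- the group -/
abbrev PS (n : ℕ) (F : Type*) [Field F] := Matrix.ProjectiveSpecialLinearGroup (Fin n) F

/-- the order of the centre -/
noncomputable def zz (n : ℕ) (F : Type*) [Field F] : ℕ := Nat.card (center (Matrix.SpecialLinearGroup (Fin n) F))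

theorem zz_pos : 0 < zz n F := Nat.card_pos

theorem card_S_mul : Nat.card (Matrix.SpecialLinearGroup (Fin n) F) = Nat.card (PS n F) * zz n F := by
  rw [card_eq_mul_ker (pr_surjective (ι := Fin n) (F := F)), ker_pr]
  rfl

/-- the fixed points of `lift e` -/
theorem card_fx_lift_dvd (e : MulAut (Matrix.SpecialLinearGroup (Fin n) F)) :
    Nat.card (Fx (lift e)) ∣ Nat.card (Fx e) :=
  card_fx_dvd pr_surjective (by rw [ker_pr]) fun x => (lift_pr e x).symm

theorem v_fx_lift_le (e : MulAut (Matrix.SpecialLinearGroup (Fin n) F)) (t : ℕ) :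
    v t (Fx (lift e)) ≤ v t (Fx e) :=
  (Nat.factorization_le_iff_dvd Nat.card_pos.ne' Nat.card_pos.ne').2 (card_fx_lift_dvd e) t

/-- centralisers of elements of prime order not dividing the order of the centre -/
theorem exists_cent {r : ℕ} (hr : r.Prime) (hrz : ¬ r ∣ zz n F) {x : PS n F} (hx : orderOf x = r) :
    ∃ g : Matrix.SpecialLinearGroup (Fin n) F, pr g = x ∧ orderOf g = r ∧
      ∀ e : MulAut (Matrix.SpecialLinearGroup (Fin n) F), lift e x = x → e g = g := by
  have hk : ¬ r ∣ Nat.card (pr : Matrix.SpecialLinearGroup (Fin n) F →* _).ker := by rwa [ker_pr]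
  obtain ⟨g, hgx, hg⟩ := exists_lift_order pr_surjective hr hk hx
  refine ⟨g, hgx, hg, fun e he => ?_⟩
  subst hgx
  rw [lift_pr] at he
  have h1 : e g * g⁻¹ ∈ (pr : Matrix.SpecialLinearGroup (Fin n) F →* _).ker := by
    rw [MonoidHom.mem_ker, map_mul, map_inv, he, mul_inv_cancel]
  have h2 : e g * g⁻¹ ∈ center (Matrix.SpecialLinearGroup (Fin n) F) := by rwa [ker_pr] at h1
  set c := e g * g⁻¹ with hc
  have h3 : e g = c * g := by rw [hc, inv_mul_cancel_right]
  have h4 : c ^ r = 1 := by
    have h5 : (e g) ^ r = 1 := by rw [← map_pow, ← hg, pow_orderOf_eq_one, map_one]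
    have h6 : Commute c g := (mem_center_iff.1 h2 g).symm
    rw [h3, h6.mul_pow, ← hg, pow_orderOf_eq_one, mul_one] at h5
    rwa [← hg]
  have h7 : c = 1 := by
    have h8 : orderOf c ∣ r := orderOf_dvd_of_pow_eq_one h4
    rcases (Nat.dvd_prime hr).1 h8 with h9 | h9
    · exact orderOf_eq_one_iff.1 h9
    · exfalso
      apply hk
      have h10 := _root_.orderOf_dvd_natCard (⟨c, h1⟩ : (pr : Matrix.SpecialLinearGroup (Fin n) F →* _).ker)
      rwa [orderOf_mk, h9] at h10
  rw [h3, h7, one_mul]

theorem lift_conj (g : Matrix.SpecialLinearGroup (Fin n) F) : lift (MulAut.conj g) = MulAut.conj (pr g) := by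
  apply MulEquiv.ext
  intro x
  obtain ⟨x, rfl⟩ := pr_surjective x
  rw [lift_pr, MulAut.conj_apply, MulAut.conj_apply, map_mul, map_mul, map_inv]

/-- `|C_S(x)| z = |C_SL(g)|` -/
theorem card_cent {r : ℕ} (hr : r.Prime) (hrz : ¬ r ∣ zz n F) {x : PS n F} (hx : orderOf x = r) :
    ∃ g : Matrix.SpecialLinearGroup (Fin n) F, pr g = x ∧ orderOf g = r ∧
      (∀ e : MulAut (Matrix.SpecialLinearGroup (Fin n) F), lift e x = x → e g = g) ∧
      Nat.card (centralizer {x} : Subgroup (PS n F)) * zz n F =
        Nat.card (centralizer {g} : Subgroup (Matrix.SpecialLinearGroup (Fin n) F)) := by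
  obtain ⟨g, hgx, hg, hfix⟩ := exists_cent hr hrz hx
  refine ⟨g, hgx, hg, hfix, ?_⟩
  have h1 := card_fx_mul (pr_surjective (ι := Fin n) (F := F)) (e := MulAut.conj g) (e' := MulAut.conj x)
    (fun y => by rw [← hgx, ← lift_conj, lift_pr]) (fun y hy => by
      rw [MulAut.conj_apply, mul_inv_eq_iff_eq_mul] at hy ⊢
      have h2 := hfix (MulAut.conj y) (by
        rw [lift_conj, MulAut.conj_apply, mul_inv_eq_iff_eq_mul]; exact hy.symm)
      rw [MulAut.conj_apply, mul_inv_eq_iff_eq_mul] at h2
      exact h2.symm)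
  rw [fx_conj, fx_conj, ker_pr] at h1
  exact h1

/-- `|Out S| = 2 z f` -/
theorem out_mul (hn : 3 ≤ n) {p f : ℕ} (hp : p.Prime) (hf : 1 ≤ f) (hF : Fintype.card F = p ^ f)
    (hZ : center (PS n F) = ⊥) : out (PS n F) = 2 * f * zz n F := by
  have := Fact.mk hp
  have : Nonempty (Fin n) := ⟨⟨0, by omega⟩⟩
  have h1 := Cfsg.Agent.S0813.result (F := F) p f hf hF n (by omega) (by omega)
  rw [if_neg (by omega), Cfsg.Agent.ClassicalGeometry.PSL2Basic.card_PGL_eq_card_SL, card_S_mul] at h1
  have h2 := Subgroup.card_mul_index (MulAut.conj : PS n F →* MulAut (PS n F)).range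
  have h3 : Nat.card (MulAut.conj : PS n F →* MulAut (PS n F)).range = Nat.card (PS n F) :=
    (Nat.card_congr (MonoidHom.ofInjective (_root_.Cfsg.Agent.H160.PD.conj_injective hZ)).toEquiv).symm
  rw [h3] at h2
  change Nat.card (PS n F) * out (PS n F) = Nat.card (MulAut (PS n F)) at h2
  rw [h1] at h2
  have h4 : 0 < Nat.card (PS n F) := Nat.card_pos
  apply Nat.eq_of_mul_eq_mul_left h4
  rw [h2]
  ring

end Psl

end Cfsg.Agent.H889.PDL
end

-- part: H889/PDL/Num
section
/-!
# S4246, row `PSL_n(q)` (helper889): numbers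

* `v_lt` : `t` prime, `t ∣ p ^ m - 1`: `v_t(m) < v_t(p ^ m - 1)`;
* `RP p f n k r` : the primes `r` (primitive for `q ^ k - 1`, `q = p ^ f`); existence `exists_rp`, `exists_rp'`.
-/

set_option autoImplicit false

namespace Cfsg.Agent.H889.PDL

open Cfsg.Agent.Lib.Zsigmondy

/-- `t ∣ p ^ m - 1` implies `v_t(m) < v_t(p ^ m - 1)` -/
theorem v_lt {t p m : ℕ} (ht : t.Prime) (hp : 2 ≤ p) (hm : m ≠ 0) (h : t ∣ p ^ m - 1) :
    m.factorization t < (p ^ m - 1).factorization t := by
  have hft : Fact t.Prime := ⟨ht⟩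
  have hpm : 1 < p ^ m := Nat.one_lt_pow hm (by omega)
  have h0 : p ^ m - 1 ≠ 0 := by omega
  rw [← Nat.succ_le_iff, Nat.succ_eq_add_one, ← ht.pow_dvd_iff_le_factorization h0]
  set a := m.factorization t with ha
  obtain ⟨m', hm'⟩ : ∃ m', m = t ^ a * m' := Nat.ordProj_dvd m t
  have h1 : ((p : ZMod t) ^ m') = 1 := by
    have h2 : ((p ^ m - 1 : ℕ) : ZMod t) = 0 := (ZMod.natCast_eq_zero_iff _ _).2 h
    rw [Nat.cast_sub hpm.le, Nat.cast_pow, Nat.cast_one, sub_eq_zero, hm', mul_comm, pow_mul,
      ZMod.pow_card_pow] at h2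
    exact h2
  have h2 : (t : ℤ) ∣ (p : ℤ) ^ m' - 1 := by
    rw [← ZMod.intCast_zmod_eq_zero_iff_dvd]
    push_cast
    rw [h1, sub_self]
  have h3 := dvd_sub_pow_of_dvd_sub h2 a
  rw [one_pow, ← pow_mul, mul_comm m', ← hm'] at h3
  have h4 : ((t ^ (a + 1) : ℕ) : ℤ) ∣ ((p ^ m - 1 : ℕ) : ℤ) := by
    rw [Nat.cast_sub hpm.le]
    push_cast
    exact_mod_cast h3
  exact_mod_cast h4

/-- divisibility version with a factor -/
theorem v_lt' {t p f j : ℕ} (ht : t.Prime) (hp : 2 ≤ p) (hf : f ≠ 0) (hj : j ≠ 0) (h : t ∣ (p ^ f) ^ j - 1) :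
    f.factorization t < ((p ^ f) ^ j - 1).factorization t := by
  rw [← pow_mul] at h ⊢
  refine lt_of_le_of_lt ?_ (v_lt ht hp (mul_ne_zero hf hj) h)
  exact (Nat.factorization_le_iff_dvd hf (mul_ne_zero hf hj)).2 (dvd_mul_right f j) t

/-- for `t = 2`, `q` odd: `v_2(2 f) < v_2(q ^ 2 - 1)` -/
theorem v_two {p f : ℕ} (hp : 2 ≤ p) (hp2 : ¬ 2 ∣ p) (hf : f ≠ 0) :
    (2 * f).factorization 2 < ((p ^ f) ^ 2 - 1).factorization 2 := by
  rw [← pow_mul, mul_comm f 2]
  refine v_lt Nat.prime_two hp (by omega) ?_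
  have h1 : Odd (p ^ (2 * f)) := (Nat.odd_iff.2 (by omega)).pow
  obtain ⟨k, hk⟩ := h1
  rw [hk, Nat.add_sub_cancel]
  exact dvd_mul_right 2 k

/-- The primes: `r` is primitive for `q ^ k - 1`, `q = p ^ f`. -/
structure RP (p f n k r : ℕ) : Prop where
  pr : r.Prime
  ord : ∀ j, r ∣ (p ^ f) ^ j - 1 ↔ k ∣ j
  low : ∃ E, (∀ m, m ≠ 0 → r ∣ p ^ m - 1 → E ≤ m) ∧ f * n < 3 * E
  ndf : ¬ r ∣ f
  gt : n < r
  ndp : ¬ r ∣ p

theorem rp_of_primitive {p f n k r : ℕ} (hf : 1 ≤ f) (hk : 1 ≤ k) (hnk : n < 3 * k) (hr : r.Prime)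
    (h : ∀ m, r ∣ p ^ m - 1 ↔ f * k ∣ m) (hd : f * k ∣ r - 1) (hp : ¬ r ∣ p) (hn : n < r) : RP p f n k r where
  pr := hr
  ord := fun j => by
    rw [← pow_mul, h]
    exact Nat.mul_dvd_mul_iff_left (by omega)
  low := ⟨f * k, fun m hm hd' => Nat.le_of_dvd (Nat.pos_of_ne_zero hm) ((h m).1 hd'), by
    have : 0 < f := hf
    nlinarith only [hf, hnk]⟩
  ndf := fun h1 => by
    have h2 := Nat.le_of_dvd (by omega) h1
    have h3 := hr.two_le
    have h4 := Nat.le_of_dvd (by omega) hd
    have h5 : f * 1 ≤ f * k := Nat.mul_le_mul_left _ hk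
    omega
  gt := hn
  ndp := hp

/-- existence, `k = n` -/
theorem exists_rp {p f n : ℕ} (hp : p.Prime) (hf : 1 ≤ f) (hn : 3 ≤ n) (h6 : ¬ (p = 2 ∧ f = 1 ∧ n = 6)) :
    ∃ r, RP p f n n r := by
  by_cases h1 : p = 2 ∧ f * n = 6
  · obtain ⟨rfl, h2⟩ := h1
    have hn3 : n = 3 := by
      have h3 : n ∣ 6 := ⟨f, by rw [mul_comm]; exact h2.symm⟩
      have h4 := Nat.le_of_dvd (by norm_num) h3
      interval_cases n
      · rfl
      · omega
      · omega
      · exfalso; exact h6 ⟨rfl, by omega, rfl⟩
    subst hn3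
    have hf2 : f = 2 := by omega
    subst hf2
    refine ⟨7, by norm_num, ?_, ⟨3, ?_, by norm_num⟩, by norm_num, by norm_num, by norm_num⟩
    · intro j
      rw [dvd_pow_sub_one_iff (by norm_num)]
      have : orderOf ((2 ^ 2 : ℕ) : ZMod 7) = 3 := by
        refine orderOf_eq_prime ?_ ?_
        · decide
        · decide
      rw [this]
    · intro m hm h
      by_contra hlt
      push Not at hlt
      interval_cases m
      · exact hm rfl
      · revert h; norm_num
      · revert h; norm_num
  · have h4 : 3 ≤ f * n := by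
      calc 3 = 1 * 3 := rfl
        _ ≤ f * n := Nat.mul_le_mul hf hn
    obtain ⟨r, hr, hm, hd, hrp⟩ := exists_primitive (a := p) (n := f * n) hp.two_le (by omega)
      (fun h => by omega) (fun h => h1 h)
    have h5 : 1 * n ≤ f * n := Nat.mul_le_mul_right _ hf
    have h6 := Nat.le_of_dvd (by have := hr.two_le; omega) hd
    exact ⟨r, rp_of_primitive hf (by omega) (by omega) hr hm hd hrp (by have := hr.two_le; omega)⟩

/-- existence, `k = n - 1`, `n` not prime -/
theorem exists_rp' {p f n : ℕ} (hp : p.Prime) (hf : 1 ≤ f) (hn : 4 ≤ n) (hnp : ¬ n.Prime) :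
    ∃ r, RP p f n (n - 1) r := by
  by_cases h1 : p = 2 ∧ f * (n - 1) = 6
  · obtain ⟨rfl, h2⟩ := h1
    have hn3 : n = 4 := by
      have h3 : n - 1 ∣ 6 := ⟨f, by rw [mul_comm]; exact h2.symm⟩
      have h4 := Nat.le_of_dvd (by norm_num) h3
      have h5 : n ≤ 7 := by omega
      interval_cases n
      · rfl
      · omega
      · omega
      · exfalso; exact hnp (by norm_num)
    subst hn3
    have hf2 : f = 2 := by omega
    subst hf2
    refine ⟨7, by norm_num, ?_, ⟨3, ?_, by norm_num⟩, by norm_num, by norm_num, by norm_num⟩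
    · intro j
      rw [dvd_pow_sub_one_iff (by norm_num)]
      have : orderOf ((2 ^ 2 : ℕ) : ZMod 7) = 3 := by
        refine orderOf_eq_prime ?_ ?_
        · decide
        · decide
      rw [this]
    · intro m hm h
      by_contra hlt
      push Not at hlt
      interval_cases m
      · exact hm rfl
      · revert h; norm_num
      · revert h; norm_num
  · have h4 : 3 ≤ f * (n - 1) := by
      calc 3 = 1 * 3 := rfl
        _ ≤ f * (n - 1) := Nat.mul_le_mul hf (by omega)
    obtain ⟨r, hr, hm, hd, hrp⟩ := exists_primitive (a := p) (n := f * (n - 1)) hp.two_le (by omega)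
      (fun h => by omega) (fun h => h1 h)
    have h5 : 1 * (n - 1) ≤ f * (n - 1) := Nat.mul_le_mul_right _ hf
    have h6 := Nat.le_of_dvd (by have := hr.two_le; omega) hd
    have h7 := hr.two_le
    have h8 : r ≠ n := by
      rintro rfl
      exact hnp hr
    exact ⟨r, rp_of_primitive hf (by omega) (by omega) hr hm hd hrp (by omega)⟩

/-- `L_6(2)` -/
theorem rp_six : RP 2 1 6 5 31 := by
  refine ⟨by norm_num, ?_, ⟨5, ?_, by norm_num⟩, by norm_num, by norm_num, by norm_num⟩
  · intro j
    rw [dvd_pow_sub_one_iff (by norm_num)]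
    have : orderOf ((2 ^ 1 : ℕ) : ZMod 31) = 5 := by
      have : Fact (Nat.Prime 5) := ⟨by norm_num⟩
      refine orderOf_eq_prime ?_ ?_
      · decide
      · decide
    rw [this]
  · intro m hm h
    by_contra hlt
    push Not at hlt
    interval_cases m
    · exact hm rfl
    · revert h; norm_num
    · revert h; norm_num
    · revert h; norm_num
    · revert h; norm_num

theorem two_mul_lt_three_pow (a : ℕ) : 2 * a + 1 ≤ 3 ^ a := by
  induction a with
  | zero => norm_num
  | succ a ih =>
    rw [pow_succ]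
    omega

/-- `p ^ a ≤ x`, `p ≥ 3`: `2 a + 1 ≤ x` -/
theorem two_mul_lt_of_pow_le {p a x : ℕ} (hp : 3 ≤ p) (h : p ^ a ≤ x) : 2 * a + 1 ≤ x :=
  (two_mul_lt_three_pow a).trans ((Nat.pow_le_pow_left hp a).trans h)

theorem v_two_mul_le {p f : ℕ} (hp : p.Prime) (hf : 1 ≤ f) : (2 * f).factorization p ≤ f := by
  have h1 : p ^ (2 * f).factorization p ≤ 2 * f := Nat.le_of_dvd (by omega) (Nat.ordProj_dvd _ _)
  set v := (2 * f).factorization p
  by_contra hlt
  push Not at hlt
  have h2 : 2 ^ v ≤ 2 * f := (Nat.pow_le_pow_left hp.two_le v).trans h1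
  obtain ⟨w, hw⟩ : ∃ w, v = w + 1 := ⟨v - 1, by omega⟩
  rw [hw, pow_succ] at h2
  have h3 : w < 2 ^ w := Nat.lt_two_pow_self
  omega

theorem v_two_mul_odd {p f : ℕ} (hp : p.Prime) (hp2 : p ≠ 2) (hf : 1 ≤ f) :
    2 * (2 * f).factorization p + 1 ≤ f := by
  have h0 : (2 * f).factorization p = f.factorization p := by
    rw [Nat.factorization_mul (by norm_num) (by omega), Finsupp.add_apply,
      Nat.factorization_eq_zero_of_not_dvd (n := 2), zero_add]
    intro h
    exact hp2 ((Nat.prime_dvd_prime_iff_eq hp Nat.prime_two).1 h)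
  rw [h0]
  refine two_mul_lt_of_pow_le (p := p) ?_ (Nat.le_of_dvd (by omega) (Nat.ordProj_dvd f p))
  have := hp.two_le
  omega

/-- `e ≤ x`: `2 v_p(e) + 1 ≤ x` -/
theorem v_le_odd {p e x : ℕ} (hp : p.Prime) (hp2 : p ≠ 2) (he : e ≠ 0) (hx : e ≤ x) :
    2 * e.factorization p + 1 ≤ x := by
  refine two_mul_lt_of_pow_le (p := p) ?_ ((Nat.le_of_dvd (Nat.pos_of_ne_zero he) (Nat.ordProj_dvd e p)).trans hx)
  have := hp.two_le
  omega

theorem not_dvd_pow_sub {p q j : ℕ} (hp : p.Prime) (hpq : p ∣ q) (hq : 1 ≤ q) (hj : j ≠ 0) : ¬ p ∣ q ^ j - 1 := by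
  intro h
  have h1 : p ∣ q ^ j := hpq.trans (dvd_pow_self _ hj)
  have h2 : 1 ≤ q ^ j := Nat.one_le_pow _ _ hq
  have h3 := Nat.dvd_sub h1 h
  rw [Nat.sub_sub_self h2] at h3
  exact hp.one_lt.ne' (Nat.dvd_one.1 h3)

/-- the exponents -/
theorem tri_le {a b n : ℕ} (h : a + b = n) (ha : 1 ≤ a) (hb : 1 ≤ b) :
    a * (a - 1) / 2 + b * (b - 1) / 2 ≤ (n - 1) * (n - 2) / 2 := by
  obtain ⟨x, rfl⟩ : ∃ x, a = x + 1 := ⟨a - 1, by omega⟩
  obtain ⟨y, rfl⟩ : ∃ y, b = y + 1 := ⟨b - 1, by omega⟩
  subst h
  have e1 : x + 1 + (y + 1) - 1 = x + y + 1 := by omega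
  have e2 : x + 1 + (y + 1) - 2 = x + y := by omega
  rw [e1, e2, Nat.add_sub_cancel, Nat.add_sub_cancel]
  have h1 : 2 ∣ (x + 1) * x := by
    rw [mul_comm]; exact even_iff_two_dvd.1 (Nat.even_mul_succ_self x)
  have h2 : 2 ∣ (y + 1) * y := by
    rw [mul_comm]; exact even_iff_two_dvd.1 (Nat.even_mul_succ_self y)
  have h3 : (x + 1) * x + (y + 1) * y ≤ (x + y + 1) * (x + y) := by linarith only [Nat.zero_le (x * y)]
  omega

end Cfsg.Agent.H889.PDL
end

-- part: H889/PDL/Lin
section
/-!
# S4246, row `PSL_n(q)` (helper889): centralisers and normalisers of the elements of primitive prime order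
-/

set_option autoImplicit false
set_option linter.unusedSectionVars false

namespace Cfsg.Agent.H889.PDL

open Matrix Module Subgroup Cfsg.Agent.H160.PD
open Cfsg.Agent.ClassicalGeometry.AutPSL.Root
open Cfsg.Agent.ClassicalGeometry.AutPSL.Auto
open Cfsg.Agent.H999.RowPSL (ker_pr Prim finrank_fixed irred)
open Cfsg.Agent.LieExceptional.SingerCentralizer

section Free

variable {F : Type*} [Field F] [Finite F] {V : Type*} [AddCommGroup V] [Module F V] [Module.Finite F V]

/-- a group of linear maps acting freely on the non-zero vectors -/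
theorem card_dvd_of_free_lin {C : Type*} [Group C] [Finite C] (ρ : C →* Module.End F V)
    (h : ∀ (c : C) (v : V), v ≠ 0 → ρ c v = v → c = 1) : Nat.card C ∣ Nat.card F ^ finrank F V - 1 := by
  classical
  have : Finite V := Module.finite_of_finite F
  have hinv : ∀ (c : C) (v : V), ρ c⁻¹ (ρ c v) = v := by
    intro c v
    rw [← Module.End.mul_apply, ← map_mul, inv_mul_cancel, map_one, Module.End.one_apply]
  let act : MulAction C {v : V // v ≠ 0} :=
    { smul := fun c v => ⟨ρ c v.1, fun h0 => v.2 (by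
        have h1 := hinv c v.1
        rw [h0, map_zero] at h1
        exact h1.symm)⟩
      one_smul := fun v => by
        apply Subtype.ext
        show ρ 1 v.1 = v.1
        rw [map_one, Module.End.one_apply]
      mul_smul := fun c d v => by
        apply Subtype.ext
        show ρ (c * d) v.1 = ρ c (ρ d v.1)
        rw [map_mul, Module.End.mul_apply] }
  have h1 := H23.FreeAct.card_dvd_of_free (D := C) (α := {v : V // v ≠ 0}) fun c v hcv =>
    h c v.1 v.2 (congrArg Subtype.val hcv)
  have h2 : Nat.card {v : V // v ≠ 0} = Nat.card F ^ finrank F V - 1 := by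
    rw [← Module.natCard_eq_pow_finrank (K := F) (V := V)]
    have : Fintype V := Fintype.ofFinite V
    rw [Nat.card_eq_fintype_card, Nat.card_eq_fintype_card, Fintype.card_subtype_compl, Fintype.card_subtype_eq]
  rwa [h2] at h1

end Free

section Sit

variable {F : Type*} [Field F] [Fintype F] {n : ℕ}

/-- the natural representation -/
def act : Matrix.SpecialLinearGroup (Fin n) F →* Module.End F (Fin n → F) where
  toFun g := toLin' g.1
  map_one' := toLin'_one
  map_mul' := fun _ _ => toLin'_mul _ _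

theorem act_injective : Function.Injective (act : Matrix.SpecialLinearGroup (Fin n) F →* _) := by
  intro a b h
  exact Subtype.ext (toLin'.injective h)

/-- `W` is a faithful submodule for the normaliser of `⟨g⟩` -/
structure Sit (g : Matrix.SpecialLinearGroup (Fin n) F) (W : Submodule F (Fin n → F)) (r m : ℕ) : Prop where
  ord : orderOf g = r
  prim : Prim (Nat.card F) r m
  inv : ∀ y ∈ normalizer ((zpowers g : Subgroup _) : Set (Matrix.SpecialLinearGroup (Fin n) F)), ∀ w ∈ W, act y w ∈ W
  faith : ∀ y ∈ normalizer ((zpowers g : Subgroup _) : Set (Matrix.SpecialLinearGroup (Fin n) F)),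
    (∀ w ∈ W, act y w = w) → y = 1
  dim : finrank F W = m

namespace Sit

variable {g : Matrix.SpecialLinearGroup (Fin n) F} {W : Submodule F (Fin n → F)} {r m : ℕ}

/-- the representation of the normaliser -/
def rep (h : Sit g W r m) :
    normalizer ((zpowers g : Subgroup _) : Set (Matrix.SpecialLinearGroup (Fin n) F)) →* Module.End F W where
  toFun y := (act (y : Matrix.SpecialLinearGroup (Fin n) F)).restrict (h.inv y y.2)
  map_one' := by
    ext w
    show (act 1 (w : Fin n → F)) _ = _
    rw [map_one]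
    rfl
  map_mul' := fun a b => by
    ext w
    show (act ((a : Matrix.SpecialLinearGroup (Fin n) F) * (b : Matrix.SpecialLinearGroup (Fin n) F))
      (w : Fin n → F)) _ = _
    rw [map_mul]
    rfl

theorem rep_injective (h : Sit g W r m) : Function.Injective h.rep := by
  rw [injective_iff_map_eq_one]
  intro y hy
  apply Subtype.ext
  refine h.faith y y.2 fun w hw => ?_
  have h1 := (congrArg (fun t : Module.End F W => ((t ⟨w, hw⟩ : W) : Fin n → F)) hy :)
  exact h1

theorem mem_norm (g : Matrix.SpecialLinearGroup (Fin n) F) :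
    g ∈ normalizer ((zpowers g : Subgroup _) : Set (Matrix.SpecialLinearGroup (Fin n) F)) :=
  le_normalizer (mem_zpowers g)

theorem centralizer_le (g : Matrix.SpecialLinearGroup (Fin n) F) :
    centralizer {g} ≤ normalizer ((zpowers g : Subgroup _) : Set (Matrix.SpecialLinearGroup (Fin n) F)) := by
  intro y hy
  rw [mem_centralizer_singleton_iff] at hy
  apply centralizer_le_normalizer
  rw [mem_centralizer_iff]
  rintro _ ⟨k, rfl⟩
  exact ((Commute.zpow_right (show Commute y g from hy) k).symm).eq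

/-- the element in its normaliser -/
def el (g : Matrix.SpecialLinearGroup (Fin n) F) :
    normalizer ((zpowers g : Subgroup _) : Set (Matrix.SpecialLinearGroup (Fin n) F)) := ⟨g, mem_norm g⟩

theorem orderOf_el (h : Sit g W r m) : orderOf (el g) = r := by
  rw [el, Subgroup.orderOf_mk, h.ord]

/-- the centralisers agree -/
def centEquiv (g : Matrix.SpecialLinearGroup (Fin n) F) : centralizer {el g} ≃* centralizer {g} where
  toFun y := ⟨(y.1 : Matrix.SpecialLinearGroup (Fin n) F), by
    have h1 := mem_centralizer_singleton_iff.1 y.2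
    rw [mem_centralizer_singleton_iff]
    exact congrArg Subtype.val h1⟩
  invFun y := ⟨⟨y.1, centralizer_le g y.2⟩, by
    have h1 := mem_centralizer_singleton_iff.1 y.2
    rw [mem_centralizer_singleton_iff]
    exact Subtype.ext h1⟩
  left_inv _ := rfl
  right_inv _ := rfl
  map_mul' _ _ := rfl

theorem prim' (h : Sit g W r m) : (r ∣ Nat.card F ^ finrank F W - 1) ∧
    ∀ d, 0 < d → d < finrank F W → ¬ r ∣ Nat.card F ^ d - 1 := by
  rw [h.dim]
  exact ⟨h.prim.dvd, h.prim.ndvd⟩

theorem isCyclic (h : Sit g W r m) : IsCyclic (centralizer {g} : Subgroup (Matrix.SpecialLinearGroup (Fin n) F)) := by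
  have h1 := isCyclic_centralizer h.rep h.rep_injective h.prim.pr h.orderOf_el h.prim'.1 h.prim'.2
  exact isCyclic_of_surjective (centEquiv g).toMonoidHom (centEquiv g).surjective

theorem card_cent_dvd (h : Sit g W r m) :
    Nat.card (centralizer {g} : Subgroup (Matrix.SpecialLinearGroup (Fin n) F)) ∣ Nat.card F ^ m - 1 := by
  rw [← Nat.card_congr (centEquiv g).toEquiv]
  have h0 := card_dvd_of_free_lin (h.rep.comp (centralizer {el g}).subtype) ?_
  · rwa [h.dim] at h0
  · intro c v hv hcv
    have hg0 : el g ^ r = 1 := orderOf_dvd_iff_pow_eq_one.1 (dvd_of_eq h.orderOf_el)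
    have hg1 : h.rep (el g) ^ r = 1 := by rw [← map_pow, hg0, map_one]
    have hg2 : h.rep (el g) ≠ 1 := by
      intro h1
      have h2 : el g = 1 := h.rep_injective (by rw [h1, map_one])
      have h3 := h.orderOf_el
      rw [h2, orderOf_one] at h3
      exact h.prim.pr.one_lt.ne h3
    by_contra hc
    have h1 : h.rep c.1 - 1 ≠ 0 := by
      intro h2
      apply hc
      apply Subtype.ext
      apply h.rep_injective
      have h3 : h.rep c.1 = 1 := sub_eq_zero.1 (h2 :)
      rw [h3, OneMemClass.coe_one, map_one]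
    have h2 : Commute (h.rep c.1 - 1) (h.rep (el g)) := by
      have h3 := mem_centralizer_singleton_iff.1 c.2
      have h4 : Commute (h.rep c.1) (h.rep (el g)) := by
        show h.rep c.1 * h.rep (el g) = h.rep (el g) * h.rep c.1
        rw [← map_mul, ← map_mul, h3]
      refine LinearMap.ext fun w => ?_
      have h5 : h.rep c.1 (h.rep (el g) w) = h.rep (el g) (h.rep c.1 w) := LinearMap.congr_fun h4.eq w
      show h.rep c.1 (h.rep (el g) w) - h.rep (el g) w = h.rep (el g) (h.rep c.1 w - w)
      rw [map_sub, h5]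
    have h3 := injective_of_commute h.prim.pr hg1 hg2 h.prim'.1 h.prim'.2 h2 h1
    apply hv
    apply h3
    rw [map_zero, LinearMap.sub_apply, Module.End.one_apply, sub_eq_zero]
    exact hcv

theorem card_norm_le (h : Sit g W r m) :
    Nat.card (normalizer ((zpowers g : Subgroup _) : Set (Matrix.SpecialLinearGroup (Fin n) F))) ≤
      m * Nat.card (centralizer {g} : Subgroup (Matrix.SpecialLinearGroup (Fin n) F)) := by
  have h1 := card_normalizer_centralizer_le h.rep h.rep_injective h.prim.pr h.orderOf_el h.prim'.1 h.prim'.2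
  rw [h.dim, Nat.card_congr (centEquiv g).toEquiv] at h1
  have h2 : normalizer ((centralizer {el g} : Subgroup _) :
      Set (normalizer ((zpowers g : Subgroup _) : Set (Matrix.SpecialLinearGroup (Fin n) F)))) = ⊤ := by
    have key : ∀ y c : normalizer ((zpowers g : Subgroup _) : Set (Matrix.SpecialLinearGroup (Fin n) F)),
        c ∈ centralizer {el g} → y * c * y⁻¹ ∈ centralizer {el g} := by
      intro y c hc
      rw [mem_centralizer_singleton_iff] at hc ⊢
      -- `y⁻¹ g y` is a power of `g`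
      have h3 : (y : Matrix.SpecialLinearGroup (Fin n) F)⁻¹ * g * y ∈ zpowers g := by
        have h4 := (mem_normalizer_iff.1 (inv_mem y.2) g).1 (mem_zpowers g)
        rwa [inv_inv] at h4
      obtain ⟨k, hk⟩ := h3
      have h5 : y⁻¹ * el g * y = el g ^ k := Subtype.ext (by
        show (y : Matrix.SpecialLinearGroup (Fin n) F)⁻¹ * g * y = ((el g ^ k : _) : Matrix.SpecialLinearGroup (Fin n) F)
        rw [← hk]
        rfl)
      have h6 : Commute c (y⁻¹ * el g * y) := by
        rw [h5]
        exact Commute.zpow_right (show Commute c (el g) from hc) k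
      have h7 : c * (y⁻¹ * el g * y) = (y⁻¹ * el g * y) * c := h6
      calc y * c * y⁻¹ * el g = y * (c * (y⁻¹ * el g * y)) * y⁻¹ := by group
        _ = y * ((y⁻¹ * el g * y) * c) * y⁻¹ := by rw [h7]
        _ = el g * (y * c * y⁻¹) := by group
    rw [eq_top_iff]
    intro y _
    rw [mem_normalizer_iff]
    intro c
    refine ⟨key y c, fun hc => ?_⟩
    have h3 := key y⁻¹ _ hc
    have h4 : y⁻¹ * (y * c * y⁻¹) * y⁻¹⁻¹ = c := by group
    rwa [h4] at h3
  rw [h2, Nat.card_congr Subgroup.topEquiv.toEquiv] at h1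
  exact h1

end Sit

end Sit

end Cfsg.Agent.H889.PDL
end

-- part: H889/PDL/SitB
section
/-!
# S4246, row `PSL_n(q)` (helper889): the faithful submodules, the consequences for `PSL_n(q)`
-/

set_option autoImplicit false
set_option linter.unusedSectionVars false

namespace Cfsg.Agent.H889.PDL

open Matrix Module Subgroup Cfsg.Agent.H160.PD
open Cfsg.Agent.ClassicalGeometry.AutPSL.Root
open Cfsg.Agent.ClassicalGeometry.AutPSL.Auto
open Cfsg.Agent.H999.RowPSL (ker_pr Prim finrank_fixed irred)
open Cfsg.Agent.LieExceptional.SingerCentralizer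

section

variable {F : Type*} [Field F] [Fintype F] {n : ℕ} {g : Matrix.SpecialLinearGroup (Fin n) F} {r : ℕ}

theorem act_mul (a b : Matrix.SpecialLinearGroup (Fin n) F) (v : Fin n → F) : act (a * b) v = act a (act b v) := by
  rw [map_mul]; rfl

theorem sit_top (ho : orderOf g = r) (h : Prim (Nat.card F) r n) : Sit g (⊤ : Submodule F (Fin n → F)) r n where
  ord := ho
  prim := h
  inv := fun _ _ _ _ => Submodule.mem_top
  faith := fun y _ hy => act_injective (by
    rw [map_one]
    exact LinearMap.ext fun v => hy v Submodule.mem_top)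
  dim := by rw [finrank_top, finrank_fintype_fun_eq_card, Fintype.card_fin]

theorem pow_sub_mem (k : ℕ) (u : Fin n → F) : act (g ^ k) u - u ∈ LinearMap.range (act g - 1) := by
  induction k generalizing u with
  | zero =>
    rw [pow_zero, map_one]
    show u - u ∈ _
    rw [sub_self]
    exact zero_mem _
  | succ k ih =>
    rw [pow_succ, act_mul]
    have h1 : act (g ^ k) (act g u) - u = (act (g ^ k) (act g u) - act g u) + (act g u - u) := by abel
    rw [h1]
    exact add_mem (ih _) ⟨u, rfl⟩

theorem exists_pow_of_mem {y : Matrix.SpecialLinearGroup (Fin n) F}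
    (hy : y ∈ normalizer ((zpowers g : Subgroup _) : Set (Matrix.SpecialLinearGroup (Fin n) F))) :
    ∃ k : ℕ, y * g * y⁻¹ = g ^ k := by
  have h1 := (mem_normalizer_iff.1 hy g).1 (mem_zpowers g)
  have h2 := mem_powers_iff_mem_zpowers.2 h1
  obtain ⟨k, hk⟩ := h2
  exact ⟨k, hk.symm⟩

theorem act_pow_order (ho : orderOf g = r) : (act g) ^ r = 1 := by
  rw [← map_pow, orderOf_dvd_iff_pow_eq_one.1 (dvd_of_eq ho), map_one]

/-- the fixed line and its complement -/
theorem disj (hn : 3 ≤ n) (ho : orderOf g = r) (h : Prim (Nat.card F) r (n - 1)) :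
    finrank F (LinearMap.ker (act g - 1)) = 1 ∧ finrank F (LinearMap.range (act g - 1)) = n - 1 ∧
      LinearMap.range (act g - 1) ⊓ LinearMap.ker (act g - 1) = ⊥ := by
  have hfr : Fact r.Prime := ⟨h.pr⟩
  have hgr : g ^ r = 1 := orderOf_dvd_iff_pow_eq_one.1 (dvd_of_eq ho)
  have h1 : finrank F (LinearMap.ker (act g - 1)) = 1 := by
    refine finrank_fixed hn h (z := g.1) ?_ ?_
    · have h2 := congrArg Subtype.val hgr
      rwa [Matrix.SpecialLinearGroup.coe_pow] at h2
    · intro h2
      have h3 : g = 1 := Subtype.ext h2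
      rw [h3, orderOf_one] at ho
      exact h.pr.one_lt.ne ho
  have h2 := LinearMap.finrank_range_add_finrank_ker (act g - 1 : Module.End F (Fin n → F))
  rw [finrank_fintype_fun_eq_card, Fintype.card_fin, h1] at h2
  have h3 : finrank F (LinearMap.range (act g - 1)) = n - 1 := by omega
  refine ⟨h1, h3, ?_⟩
  have h4 := card_modEq_fixed (F := F) (act g) (act_pow_order ho) (LinearMap.range (act g - 1)) (fun w hw => by
    obtain ⟨u, rfl⟩ := hw
    exact ⟨act g u, by
      show act g (act g u) - act g u = act g (act g u - u)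
      rw [map_sub]⟩)
  rw [h3] at h4
  have h5 : finrank F ↥(LinearMap.range (act g - 1) ⊓ LinearMap.ker (act g - 1)) ≤ 1 := by
    rw [← h1]
    exact Submodule.finrank_mono inf_le_right
  have h6 : Nat.card F ^ (n - 1) ≡ 1 [MOD r] :=
    ((Nat.modEq_iff_dvd' (Nat.one_le_pow _ _ Nat.card_pos)).2 h.dvd).symm
  rcases Nat.eq_zero_or_pos (finrank F ↥(LinearMap.range (act g - 1) ⊓ LinearMap.ker (act g - 1))) with h7 | h7
  · exact Submodule.finrank_eq_zero.1 h7
  · exfalso
    have h8 : finrank F ↥(LinearMap.range (act g - 1) ⊓ LinearMap.ker (act g - 1)) = 1 := by omega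
    rw [h8] at h4
    have h9 : 1 ≡ Nat.card F ^ 1 [MOD r] := h6.symm.trans h4
    exact h.ndvd 1 one_pos (by omega) ((Nat.modEq_iff_dvd' (Nat.one_le_pow _ _ Nat.card_pos)).1 h9)

theorem sit_range (hn : 3 ≤ n) (ho : orderOf g = r) (h : Prim (Nat.card F) r (n - 1)) :
    Sit g (LinearMap.range (act g - 1)) r (n - 1) where
  ord := ho
  prim := h
  inv := fun y hy w hw => by
    obtain ⟨u, rfl⟩ := hw
    obtain ⟨k, hk⟩ := exists_pow_of_mem hy
    have h1 : act y ((act g - 1 : Module.End F (Fin n → F)) u) = act (g ^ k) (act y u) - act y u := by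
      show act y (act g u - u) = _
      rw [map_sub, ← act_mul, ← act_mul, ← hk]
      congr 2
      rw [inv_mul_cancel_right]
    rw [h1]
    exact pow_sub_mem k _
  faith := fun y hy hyW => by
    obtain ⟨h1, h2, h3⟩ := disj hn ho h
    set W := LinearMap.range (act g - 1) with hW
    set U := LinearMap.ker (act g - 1) with hU
    have hWc : W ≤ W.comap (act y) := fun w hw => by
      rw [Submodule.mem_comap, hyW w hw]
      exact hw
    have hdet := LinearMap.det_eq_det_mul_det W (act y) hWc
    have hd1 : LinearMap.det (act y) = 1 := by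
      show LinearMap.det (toLin' y.1) = 1
      rw [LinearMap.det_toLin', y.2]
    have hd2 : LinearMap.det ((act y).restrict hWc) = 1 := by
      have h4 : (act y).restrict hWc = LinearMap.id := by
        ext ⟨w, hw⟩ : 1
        exact Subtype.ext (hyW w hw)
      rw [h4, LinearMap.det_id]
    rw [hd1, hd2, one_mul] at hdet
    -- the quotient is a line
    have hq : finrank F ((Fin n → F) ⧸ W) = 1 := by
      have h4 := Submodule.finrank_quotient_add_finrank W
      rw [h2, finrank_fintype_fun_eq_card, Fintype.card_fin] at h4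
      omega
    obtain ⟨ν, hν⟩ : ∃ ν : F, W.mapQ W (act y) hWc = ν • LinearMap.id := by
      obtain ⟨e, he0, he⟩ := finrank_eq_one_iff'.1 hq
      obtain ⟨ν, hν⟩ := he (W.mapQ W (act y) hWc e)
      refine ⟨ν, LinearMap.ext fun w => ?_⟩
      obtain ⟨c, rfl⟩ := he w
      rw [map_smul, ← hν, LinearMap.smul_apply, LinearMap.id_apply, smul_comm]
    rw [hν, LinearMap.det_smul, hq, pow_one, LinearMap.det_id, mul_one] at hdet
    rw [← hdet, one_smul] at hν
    have hsub : ∀ v, act y v - v ∈ W := by
      intro v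
      rw [← Submodule.Quotient.mk_eq_zero, Submodule.Quotient.mk_sub, sub_eq_zero]
      have h4 := LinearMap.congr_fun hν (Submodule.Quotient.mk v)
      rwa [LinearMap.id_apply] at h4
    -- `y` normalises the line
    have hyU : ∀ u ∈ U, act y u = u := by
      intro u hu
      have h4 : act y u ∈ U := by
        obtain ⟨k, hk⟩ := exists_pow_of_mem (inv_mem hy)
        have hgu : act g u = u := by
          have h5 : (act g - 1 : Module.End F (Fin n → F)) u = 0 := hu
          exact sub_eq_zero.1 h5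
        have hgk : act (g ^ k) u = u := by
          clear hk
          induction k with
          | zero => rw [pow_zero, map_one]; rfl
          | succ k ih => rw [pow_succ, act_mul, hgu, ih]
        show act g (act y u) - act y u = 0
        rw [sub_eq_zero, ← act_mul]
        have h5 : g * y = y * g ^ k := by
          rw [← hk, inv_inv]
          group
        rw [h5, act_mul, hgk]
      have h5 : act y u - u ∈ W ⊓ U := ⟨hsub u, sub_mem h4 hu⟩
      rw [h3, Submodule.mem_bot, sub_eq_zero] at h5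
      exact h5
    have htop : W ⊔ U = ⊤ := by
      apply Submodule.eq_top_of_finrank_eq
      have h4 := Submodule.finrank_sup_add_finrank_inf_eq W U
      rw [h3, finrank_bot, add_zero, h1, h2] at h4
      rw [h4, finrank_fintype_fun_eq_card, Fintype.card_fin]
      omega
    apply act_injective
    rw [map_one]
    refine LinearMap.ext fun v => ?_
    have hv : v ∈ W ⊔ U := htop ▸ Submodule.mem_top
    obtain ⟨w, hw, u, hu, rfl⟩ := Submodule.mem_sup.1 hv
    rw [map_add, hyW w hw, hyU u hu]
    rfl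
  dim := (disj hn ho h).2.1

end

end Cfsg.Agent.H889.PDL
end

-- part: H889/PDL/Cen
section
/-!
# S4246, row `PSL_n(q)` (helper889): centralisers and normalisers in `PSL_n(q)`
-/

set_option autoImplicit false
set_option linter.unusedSectionVars false

namespace Cfsg.Agent.H889.PDL

open Matrix Module Subgroup Cfsg.Agent.H160.PD
open Cfsg.Agent.ClassicalGeometry.AutPSL.Root
open Cfsg.Agent.ClassicalGeometry.AutPSL.Auto
open Cfsg.Agent.H999.RowPSL (ker_pr Prim finrank_fixed irred)

section

variable {F : Type*} [Field F] [Fintype F] {n : ℕ} {r m : ℕ}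

theorem eq_of_pr_eq (hr : r.Prime) (hrz : ¬ r ∣ zz n F) {a b : Matrix.SpecialLinearGroup (Fin n) F}
    (h : pr a = pr b) (ha : a ^ r = 1) (hb : b ^ r = 1) : a = b := by
  have h1 : a * b⁻¹ ∈ (pr : Matrix.SpecialLinearGroup (Fin n) F →* _).ker := by
    rw [MonoidHom.mem_ker, map_mul, map_inv, h, mul_inv_cancel]
  have h2 : a * b⁻¹ ∈ center (Matrix.SpecialLinearGroup (Fin n) F) := by rwa [ker_pr] at h1
  set c := a * b⁻¹ with hc
  have h3 : a = c * b := by rw [hc, inv_mul_cancel_right]
  have h4 : c ^ r = 1 := by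
    have h6 : Commute c b := (mem_center_iff.1 h2 b).symm
    rwa [h3, h6.mul_pow, hb, mul_one] at ha
  have h7 : c = 1 := by
    have h8 : orderOf c ∣ r := orderOf_dvd_of_pow_eq_one h4
    rcases (Nat.dvd_prime hr).1 h8 with h9 | h9
    · exact orderOf_eq_one_iff.1 h9
    · exfalso
      apply hrz
      have h10 := _root_.orderOf_dvd_natCard (⟨c, h2⟩ : center (Matrix.SpecialLinearGroup (Fin n) F))
      rwa [orderOf_mk, h9] at h10
  rw [h3, h7, one_mul]

/-- The facts on the elements of order `r`. -/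
structure Fine (n : ℕ) (F : Type*) [Field F] [Fintype F] (r m : ℕ) : Prop where
  prim : Prim (Nat.card F) r m
  ndz : ¬ r ∣ zz n F
  cyc : ∀ x : PS n F, orderOf x = r → IsCyclic (centralizer {x} : Subgroup (PS n F))
  cent : ∀ x : PS n F, orderOf x = r → Nat.card (centralizer {x} : Subgroup (PS n F)) * zz n F ∣ Nat.card F ^ m - 1
  norm : ∀ x : PS n F, orderOf x = r → Nat.card (normalizer ((zpowers x : Subgroup (PS n F)) : Set (PS n F))) ≤
    m * Nat.card (centralizer {x} : Subgroup (PS n F))

theorem fine_of_sit (hrz : ¬ r ∣ zz n F) (hP : Prim (Nat.card F) r m)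
    (hs : ∀ g : Matrix.SpecialLinearGroup (Fin n) F, orderOf g = r → ∃ W, Sit g W r m) : Fine n F r m where
  prim := hP
  ndz := hrz
  cyc := fun x hx => by
    obtain ⟨g, hgx, hg, hfix, hcard⟩ := card_cent hP.pr hrz hx
    obtain ⟨W, hW⟩ := hs g hg
    have := hW.isCyclic
    -- the centraliser is the image
    let φ : (centralizer {g} : Subgroup (Matrix.SpecialLinearGroup (Fin n) F)) →*
        (centralizer {x} : Subgroup (PS n F)) :=
      { toFun := fun y => ⟨pr y.1, by
          rw [mem_centralizer_singleton_iff, ← hgx, ← map_mul, ← map_mul, mem_centralizer_singleton_iff.1 y.2]⟩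
        map_one' := Subtype.ext (map_one _)
        map_mul' := fun a b => Subtype.ext (map_mul _ _ _) }
    refine isCyclic_of_surjective φ ?_
    rintro ⟨z, hz⟩
    obtain ⟨y, rfl⟩ := pr_surjective z
    refine ⟨⟨y, ?_⟩, rfl⟩
    have h1 := hfix (MulAut.conj y) (by
      rw [lift_conj, MulAut.conj_apply, mul_inv_eq_iff_eq_mul]
      exact mem_centralizer_singleton_iff.1 hz)
    rw [MulAut.conj_apply, mul_inv_eq_iff_eq_mul] at h1
    exact mem_centralizer_singleton_iff.2 h1
  cent := fun x hx => by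
    obtain ⟨g, -, hg, -, hcard⟩ := card_cent hP.pr hrz hx
    obtain ⟨W, hW⟩ := hs g hg
    rw [hcard]
    exact hW.card_cent_dvd
  norm := fun x hx => by
    obtain ⟨g, hgx, hg, hfix, hcard⟩ := card_cent hP.pr hrz hx
    obtain ⟨W, hW⟩ := hs g hg
    have h1 := hW.card_norm_le
    have hle : (normalizer ((zpowers x : Subgroup (PS n F)) : Set (PS n F))).comap pr ≤
        normalizer ((zpowers g : Subgroup _) : Set (Matrix.SpecialLinearGroup (Fin n) F)) := by
      have key : ∀ y : Matrix.SpecialLinearGroup (Fin n) F,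
          pr y ∈ normalizer ((zpowers x : Subgroup (PS n F)) : Set (PS n F)) →
          ∀ w ∈ zpowers g, y * w * y⁻¹ ∈ zpowers g := by
        intro y hy w hw
        have h2 := (mem_normalizer_iff.1 hy x).1 (mem_zpowers x)
        obtain ⟨k, hk⟩ := h2
        have hk' : x ^ k = pr y * x * (pr y)⁻¹ := hk
        have hgr : g ^ r = 1 := orderOf_dvd_iff_pow_eq_one.1 (dvd_of_eq hg)
        have h3 : y * g * y⁻¹ = g ^ k := by
          refine eq_of_pr_eq hP.pr hrz ?_ ?_ ?_
          · rw [map_mul, map_mul, map_inv, map_zpow, hgx, hk']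
          · rw [conj_pow, hgr, mul_one, mul_inv_cancel]
          · rw [← zpow_natCast, ← _root_.zpow_mul, mul_comm, _root_.zpow_mul, zpow_natCast, hgr, _root_.one_zpow]
        obtain ⟨j, rfl⟩ := hw
        have h4 : y * g ^ j * y⁻¹ = (y * g * y⁻¹) ^ j := conj_zpow.symm
        show y * g ^ j * y⁻¹ ∈ _
        rw [h4, h3]
        exact zpow_mem (zpow_mem (mem_zpowers g) k) j
      intro y hy
      rw [mem_normalizer_iff]
      intro w
      refine ⟨key y hy w, fun hw => ?_⟩
      have h5 := key y⁻¹ (by rw [map_inv]; exact inv_mem hy) _ hw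
      have h6 : y⁻¹ * (y * w * y⁻¹) * y⁻¹⁻¹ = w := by group
      rwa [h6] at h5
    have h2 := Nat.le_of_dvd Nat.card_pos (card_dvd_of_le hle)
    rw [card_comap pr_surjective, ker_pr] at h2
    have h3 := h2.trans h1
    rw [← hcard, ← mul_assoc] at h3
    exact Nat.le_of_mul_le_mul_right h3 zz_pos

/-- `r` primitive for `q ^ n - 1` -/
theorem fine_top (hrz : ¬ r ∣ zz n F) (hP : Prim (Nat.card F) r n) : Fine n F r n :=
  fine_of_sit hrz hP fun _ hg => ⟨_, sit_top hg hP⟩

/-- `r` primitive for `q ^ (n - 1) - 1` -/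
theorem fine_pred (hn : 3 ≤ n) (hrz : ¬ r ∣ zz n F) (hP : Prim (Nat.card F) r (n - 1)) : Fine n F r (n - 1) :=
  fine_of_sit hrz hP fun _ hg => ⟨_, sit_range hn hg hP⟩

namespace Fine

theorem uniq (h : Fine n F r m) : Uniq (PS n F) r := uniq_of_cyclic h.cyc

/-- the index of the centraliser in the normaliser -/
theorem exists_idx (h : Fine n F r m) {x : PS n F} (hx : orderOf x = r) : ∃ e : ℕ, e ≠ 0 ∧ e ≤ m ∧
    Nat.card (normalizer ((zpowers x : Subgroup (PS n F)) : Set (PS n F))) =
      e * Nat.card (centralizer {x} : Subgroup (PS n F)) := by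
  have hle : (centralizer {x} : Subgroup (PS n F)) ≤ normalizer ((zpowers x : Subgroup (PS n F)) : Set (PS n F)) := by
    intro y hy
    rw [mem_centralizer_singleton_iff] at hy
    apply centralizer_le_normalizer
    rw [mem_centralizer_iff]
    rintro _ ⟨k, rfl⟩
    exact ((Commute.zpow_right (show Commute y x from hy) k).symm).eq
  obtain ⟨e, he⟩ := card_dvd_of_le hle
  have hpos : 0 < Nat.card (centralizer {x} : Subgroup (PS n F)) := Nat.card_pos
  have hpos' : 0 < Nat.card (normalizer ((zpowers x : Subgroup (PS n F)) : Set (PS n F))) := Nat.card_pos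
  refine ⟨e, ?_, ?_, by rw [he, mul_comm]⟩
  · rintro rfl
    rw [he, mul_zero] at hpos'
    exact lt_irrefl _ hpos'
  · have h1 := h.norm x hx
    rw [he, mul_comm] at h1
    exact Nat.le_of_mul_le_mul_right h1 hpos

theorem v_cent (h : Fine n F r m) (hm : m ≠ 0) {x : PS n F} (hx : orderOf x = r) (t : ℕ) :
    v t (centralizer {x} : Subgroup (PS n F)) + (zz n F).factorization t ≤ (Nat.card F ^ m - 1).factorization t := by
  have hq : 1 < Nat.card F := Finite.one_lt_card
  have h0 : Nat.card F ^ m - 1 ≠ 0 := by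
    have := Nat.one_lt_pow hm hq
    omega
  have h1 := (Nat.factorization_le_iff_dvd (mul_ne_zero Nat.card_pos.ne' zz_pos.ne') h0).2 (h.cent x hx) t
  rwa [Nat.factorization_mul Nat.card_pos.ne' zz_pos.ne', Finsupp.add_apply] at h1

/-- the characteristic does not divide the order of the centraliser -/
theorem v_cent_char (h : Fine n F r m) (hm : m ≠ 0) {p : ℕ} (hp : p.Prime) (hpF : p ∣ Nat.card F)
    {x : PS n F} (hx : orderOf x = r) : v p (centralizer {x} : Subgroup (PS n F)) = 0 := by
  have h1 := h.v_cent hm hx p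
  rw [Nat.factorization_eq_zero_of_not_dvd (not_dvd_pow_sub hp hpF Nat.card_pos hm)] at h1
  omega

theorem v_norm_char (h : Fine n F r m) (hm : m ≠ 0) {p : ℕ} (hp : p.Prime) (hp2 : p ≠ 2) (hpF : p ∣ Nat.card F)
    {x : PS n F} (hx : orderOf x = r) :
    v p (normalizer ((zpowers x : Subgroup (PS n F)) : Set (PS n F))) ≤ (m - 1) / 2 := by
  obtain ⟨e, he0, hem, he⟩ := h.exists_idx hx
  have h1 : v p (normalizer ((zpowers x : Subgroup (PS n F)) : Set (PS n F))) = e.factorization p := by
    have h2 := h.v_cent_char hm hp hpF hx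
    simp only [v] at h2 ⊢
    rw [he, Nat.factorization_mul he0 Nat.card_pos.ne', Finsupp.add_apply, h2, add_zero]
  rw [h1]
  have h2 := v_le_odd hp hp2 he0 hem
  omega

/-- primes `s > m` not dividing `q ^ m - 1` do not divide the order of the normaliser -/
theorem not_dvd_norm (h : Fine n F r m) {s : ℕ} (hs : s.Prime) (hsm : m < s)
    (hsq : ¬ s ∣ Nat.card F ^ m - 1) {x : PS n F} (hx : orderOf x = r) :
    ¬ s ∣ Nat.card (normalizer ((zpowers x : Subgroup (PS n F)) : Set (PS n F))) := by
  obtain ⟨e, he0, hem, he⟩ := h.exists_idx hx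
  rw [he]
  intro hd
  rcases hs.dvd_mul.1 hd with h1 | h1
  · have := Nat.le_of_dvd (Nat.pos_of_ne_zero he0) h1
    omega
  · exact hsq ((h1.mul_right _).trans (h.cent x hx))

end Fine

end

end Cfsg.Agent.H889.PDL
end

private theorem dce_ed146f524843 : _root_.True := by
  try have : _root_.True := by simp only [_root_.Cfsg.Agent.H889.PDL.Sit.el.eq_1]
  exact _root_.True.intro
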